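import Mathlib

/-!
For fields `k ⊆ K ⊆ L` with `L` finitely generated over `k`:
`trdeg_K L + rank Ω_{K/k} ≤ rank Ω_{L/k}` and `K` is finitely generated over `k`.
-/

set_option autoImplicit false
universe u

open TensorProduct IntermediateField Module

namespace Groth.Agent.CartierIneqLib

variable {k : Type u} [Field k]

open Polynomial in
lemma polynomial_kaehler (F : Type u) [Field F] [Algebra k F] [Module.Finite F (Ω[F⁄k])] :
    Module.Free F[X] (Ω[F[X]⁄k]) ∧ Module.Finite F[X] (Ω[F[X]⁄k]) ∧
      finrank F[X] (Ω[F[X]⁄k]) = finrank F (Ω[F⁄k]) + 1 := by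
  let f := KaehlerDifferential.mapBaseChange k F F[X]
  let g := KaehlerDifferential.map k F F[X] F[X]
  have hex : Function.Exact f g := KaehlerDifferential.exact_mapBaseChange_map k F F[X]
  have hf : Function.Injective f := by
    rw [injective_iff_map_eq_zero]
    intro x hx
    obtain ⟨x, rfl⟩ := (Algebra.H1Cotangent.exact_δ_mapBaseChange k F F[X] x).mp hx
    rw [Subsingleton.elim x 0, map_zero]
  have hg : Function.Surjective g := KaehlerDifferential.map_surjective k F F[X]
  have : Module.Free F[X] (Ω[F[X]⁄F]) :=
    Module.Free.of_equiv (KaehlerDifferential.polynomialEquiv F).symm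
  have : Module.Finite F[X] (Ω[F[X]⁄F]) :=
    Module.Finite.equiv (KaehlerDifferential.polynomialEquiv F).symm
  have h1 : finrank F[X] (Ω[F[X]⁄F]) = 1 :=
    (LinearEquiv.finrank_eq (KaehlerDifferential.polynomialEquiv F)).trans (finrank_self _)
  obtain ⟨l, hl⟩ := Module.projective_lifting_property g LinearMap.id hg
  let e := (hex.splitSurjectiveEquiv hf ⟨l, hl⟩).1
  refine ⟨Module.Free.of_equiv e.symm, Module.Finite.equiv e.symm, ?_⟩
  rw [e.finrank_eq, Module.finrank_prod, h1, Module.finrank_baseChange]

/-- A simple extension raises the rank of differentials at least by its transcendence degree. -/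
lemma simple_step {K L : Type u} [Field K] [Field L] [Algebra k K] [Algebra K L] [Algebra k L]
    [IsScalarTower k K L] [Module.Finite K (Ω[K⁄k])] (a : L) :
    Module.Finite K⟮a⟯ (Ω[K⟮a⟯⁄k]) ∧ (Algebra.trdeg K K⟮a⟯).toNat + finrank K (Ω[K⁄k]) ≤
      finrank K⟮a⟯ (Ω[K⟮a⟯⁄k]) := by
  obtain ⟨hfree, hfin, hrk⟩ := polynomial_kaehler (k := k) K
  let E := K⟮a⟯
  let α : E := AdjoinSimple.gen K a
  let : Algebra (Polynomial K) E := (Polynomial.aeval α).toRingHom.toAlgebra
  have : IsScalarTower K (Polynomial K) E :=
    IsScalarTower.of_algebraMap_eq fun r => (Polynomial.aeval_C α r).symm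
  have : IsScalarTower k (Polynomial K) E := IsScalarTower.of_algebraMap_eq fun r => by
    rw [IsScalarTower.algebraMap_apply k K E, IsScalarTower.algebraMap_apply k K (Polynomial K),
      ← IsScalarTower.algebraMap_apply K (Polynomial K) E]
  have hbc : finrank E (E ⊗[Polynomial K] Ω[Polynomial K⁄k]) = finrank K (Ω[K⁄k]) + 1 := by
    rw [Module.finrank_baseChange, hrk]
  by_cases ha : IsAlgebraic K a
  · have hs : Function.Surjective (algebraMap (Polynomial K) E) := fun y => by
      obtain ⟨f, hf⟩ := (adjoin.powerBasis ha.isIntegral).exists_eq_aeval' y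
      exact ⟨f, hf.symm⟩
    have : Algebra.IsAlgebraic K E := isAlgebraic_adjoin_simple ha.isIntegral
    let m := KaehlerDifferential.mapBaseChange k (Polynomial K) E
    have hm : Function.Surjective m := KaehlerDifferential.mapBaseChange_surjective k _ _ hs
    refine ⟨Module.Finite.of_surjective m hm, ?_⟩
    rw [trdeg_eq_zero_iff.2 ‹_›, map_zero, zero_add]
    obtain ⟨p, hp⟩ := (IsPrincipalIdealRing.principal
      (RingHom.ker (algebraMap (Polynomial K) E))).principal
    have hpm : p ∈ RingHom.ker (algebraMap (Polynomial K) E) := by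
      rw [hp]; exact Submodule.mem_span_singleton_self p
    let w : E ⊗[Polynomial K] Ω[Polynomial K⁄k] :=
      1 ⊗ₜ KaehlerDifferential.D k (Polynomial K) p
    have hker : LinearMap.ker m ≤ Submodule.span E {w} := by
      intro z hz
      obtain ⟨c, rfl⟩ :=
        (KaehlerDifferential.exact_kerCotangentToTensor_mapBaseChange k (Polynomial K) E hs z).mp hz
      obtain ⟨⟨c, hc⟩, rfl⟩ := Ideal.toCotangent_surjective _ c
      have hc' := hc
      rw [hp, Submodule.mem_span_singleton] at hc'
      obtain ⟨b, rfl⟩ := hc'
      have : (⟨b • p, hc⟩ : RingHom.ker (algebraMap (Polynomial K) E)) = b • ⟨p, hpm⟩ := rfl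
      rw [this, map_smul, map_smul, ← IsScalarTower.algebraMap_smul E b,
        KaehlerDifferential.kerCotangentToTensor_toCotangent]
      exact Submodule.smul_mem _ _ (Submodule.mem_span_singleton_self w)
    have h1 := LinearMap.finrank_range_add_finrank_ker m
    rw [LinearMap.range_eq_top.2 hm, finrank_top, hbc] at h1
    have h2 : finrank E (LinearMap.ker m) ≤ 1 :=
      (Submodule.finrank_mono hker).trans ((finrank_span_le_card ({w} : Set _)).trans (by simp))
    simp only [E] at h1 h2 ⊢
    omega
  · have hinj : Function.Injective (algebraMap (Polynomial K) E) := by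
      refine transcendental_iff_injective.1 fun h => ha ?_
      exact h.algebraMap (A := L)
    have : FaithfulSMul (Polynomial K) E := (faithfulSMul_iff_algebraMap_injective _ _).2 hinj
    have : IsFractionRing (Polynomial K) E := IsFractionRing.of_field _ _ fun z => by
      obtain ⟨r, s, h⟩ := (mem_adjoin_simple_iff K (z : L)).1 z.2
      refine ⟨r, s, Subtype.ext ?_⟩
      rw [h, RingHom.algebraMap_toAlgebra]
      have hc : ∀ f : Polynomial K, ((Polynomial.aeval α f : E) : L) = Polynomial.aeval a f :=
        fun f => (Polynomial.aeval_algHom_apply E.val α f).symm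
      push_cast
      rw [← hc r, ← hc s]
      rfl
    have : Algebra.FormallyEtale (Polynomial K) E :=
      Algebra.FormallyEtale.of_isLocalization (nonZeroDivisors (Polynomial K))
    let e := KaehlerDifferential.tensorKaehlerEquivOfFormallyEtale k (Polynomial K) E
    have ht : Algebra.trdeg K E = 1 := by
      have h := trdeg_add_eq K (Polynomial K) (A := E)
      rw [trdeg_eq_zero_iff.2 (IsLocalization.isAlgebraic E (nonZeroDivisors (Polynomial K))),
        Polynomial.trdeg_of_isDomain, add_zero] at h
      exact h.symm
    refine ⟨Module.Finite.equiv e, ?_⟩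
    rw [ht, map_one, ← e.finrank_eq, hbc, add_comm]

lemma finrank_ineq_aux : ∀ (n : ℕ) {K L : Type u} [Field K] [Field L] [Algebra k K] [Algebra K L]
    [Algebra k L] [IsScalarTower k K L] [Module.Finite K (Ω[K⁄k])] (s : Finset L), s.card ≤ n →
    adjoin K (s : Set L) = ⊤ →
    Module.Finite L (Ω[L⁄k]) ∧ (Algebra.trdeg K L).toNat + finrank K (Ω[K⁄k]) ≤
      finrank L (Ω[L⁄k]) := by
  intro n
  induction n with
  | zero =>
    intro K L _ _ _ _ _ _ _ s hs htop
    rw [Finset.card_eq_zero.1 (Nat.le_zero.1 hs), Finset.coe_empty, adjoin_empty] at htop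
    have hb : Function.Surjective (algebraMap K L) := fun x => by
      have : x ∈ (⊥ : IntermediateField K L) := htop ▸ mem_top
      exact mem_bot.1 this
    have : Algebra.IsAlgebraic K L := ⟨fun x => by
      obtain ⟨y, rfl⟩ := hb x
      exact isAlgebraic_algebraMap y⟩
    have : Algebra.FormallyEtale K L :=
      .of_equiv (AlgEquiv.ofBijective (Algebra.ofId K L) ⟨RingHom.injective _, hb⟩)
    let e := KaehlerDifferential.tensorKaehlerEquivOfFormallyEtale k K L
    refine ⟨Module.Finite.equiv e, ?_⟩
    rw [trdeg_eq_zero_iff.2 ‹_›, map_zero, zero_add, ← e.finrank_eq, Module.finrank_baseChange]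
  | succ n ih =>
    intro K L _ _ _ _ _ _ _ s hs htop
    classical
    rcases s.eq_empty_or_nonempty with rfl | ⟨a, has⟩
    · exact ih (∅ : Finset L) (Nat.zero_le n) htop
    obtain ⟨hfin, hle⟩ := simple_step (k := k) (K := K) a
    have htop' : adjoin K⟮a⟯ ((s.erase a : Finset L) : Set L) = ⊤ := by
      apply restrictScalars_injective K
      rw [adjoin_adjoin_left, restrictScalars_top, ← htop, Set.singleton_union,
        ← Finset.coe_insert, Finset.insert_erase has]
    have : IsScalarTower k K⟮a⟯ L :=
      IsScalarTower.of_algebraMap_eq fun r =>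
        (IsScalarTower.algebraMap_apply k K L r).trans (congrArg (algebraMap K⟮a⟯ L)
          (IsScalarTower.algebraMap_apply k K K⟮a⟯ r).symm)
    obtain ⟨hfin', hle'⟩ := ih (K := K⟮a⟯) (s.erase a)
      (by rw [Finset.card_erase_of_mem has]; omega) htop'
    refine ⟨hfin', ?_⟩
    have : Algebra.EssFiniteType K L :=
      IntermediateField.fg_top_iff.1 ⟨s, htop⟩
    have : Algebra.EssFiniteType K⟮a⟯ L := Algebra.EssFiniteType.of_comp K _ L
    have : Algebra.EssFiniteType K K⟮a⟯ :=
      IntermediateField.essFiniteType_iff.2 (fg_adjoin_of_finite (Set.finite_singleton a))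
    rw [← trdeg_add_eq K K⟮a⟯ (A := L), Cardinal.toNat_add (trdeg_lt_aleph0 _ _) (trdeg_lt_aleph0 _ _)]
    omega

/-- A subextension of a finitely generated field extension is finitely generated. -/
theorem essFiniteType_of_tower (K L : Type u) [Field K] [Field L] [Algebra k K] [Algebra K L]
    [Algebra k L] [IsScalarTower k K L] [Algebra.EssFiniteType k L] :
    Algebra.EssFiniteType k K := by
  have : FinTrdeg k K := by
    rw [finTrdeg_iff_trdeg]
    exact lt_of_le_of_lt ((le_add_right le_rfl).trans (trdeg_add_eq k K (A := L)).le)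
      (trdeg_lt_aleph0 k L)
  obtain ⟨s, hs⟩ := exists_finset_isTranscendenceBasis k K
  let F := adjoin k (Set.range (Subtype.val : s → K))
  have : Algebra.IsAlgebraic F K := hs.isAlgebraic_field
  have : Algebra.EssFiniteType k F :=
    IntermediateField.essFiniteType_iff.2 (fg_adjoin_of_finite (Set.finite_range _))
  have : Algebra.EssFiniteType F L := Algebra.EssFiniteType.of_comp k F L
  obtain ⟨t, ht⟩ := exists_finset_isTranscendenceBasis F L
  let x : t → L := Subtype.val
  let G := adjoin F (Set.range x)
  have : Algebra.IsAlgebraic G L := ht.isAlgebraic_field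
  have : Algebra.EssFiniteType G L := Algebra.EssFiniteType.of_comp F G L
  have : Module.Finite G L := Algebra.finite_of_essFiniteType_of_isAlgebraic
  have hA : AlgebraicIndependent K x := ht.1.extendScalars _
  have key : ∀ w : Finset K, LinearIndepOn F id (w : Set K) → w.card ≤ finrank G L := by
    intro w hw
    let v : w → L := fun i => algebraMap K L i
    have hR : LinearIndependent (Algebra.adjoin F (Set.range x)) v := by
      rw [Fintype.linearIndependent_iff]
      intro c hc
      have hmem : ∀ i, ∃ P : MvPolynomial t F, MvPolynomial.aeval x P = (c i : L) := fun i => by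
        exact (SetLike.ext_iff.mp (Algebra.adjoin_range_eq_range_aeval F x) _).mp (c i).2
      choose P hP using hmem
      have hz : ∑ i : w, MvPolynomial.C (i : K) * MvPolynomial.map (algebraMap F K) (P i) = 0 := by
        apply hA
        simp only [map_sum, map_mul, map_zero, MvPolynomial.aeval_C,
          MvPolynomial.aeval_map_algebraMap]
        rw [← hc]
        refine Finset.sum_congr rfl fun i _ => ?_
        rw [hP i, Algebra.smul_def]
        exact mul_comm _ _
      intro i
      have hPi : P i = 0 := by
        ext m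
        have hm : ∑ j : w, (P j).coeff m • (j : K) = 0 := by
          have := congrArg (MvPolynomial.coeff m) hz
          simpa [MvPolynomial.coeff_sum, MvPolynomial.coeff_C_mul, MvPolynomial.coeff_map,
            Algebra.smul_def, mul_comm] using this
        simpa using Fintype.linearIndependent_iff.mp hw (fun j => (P j).coeff m) hm i
      apply Subtype.ext
      rw [← hP i, hPi]
      simp
    have hG : LinearIndependent G v := by
      open scoped algebraAdjoinAdjoin in
      exact (LinearIndependent.iff_fractionRing (Algebra.adjoin F (Set.range x)) G).mp hR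
    simpa using hG.fintype_card_le_finrank
  have : Module.Finite F K := Module.rank_lt_aleph0_iff.mp
    (lt_of_le_of_lt (rank_le key) Cardinal.natCast_lt_aleph0)
  exact Algebra.EssFiniteType.comp k F K

theorem finrank_ineq (K L : Type u) [Field K] [Field L] [Algebra k K] [Algebra K L]
    [Algebra k L] [IsScalarTower k K L] [Algebra.EssFiniteType k L] :
    Module.Finite L (Ω[L⁄k]) ∧ Module.Finite K (Ω[K⁄k]) ∧
      (Algebra.trdeg K L).toNat + finrank K (Ω[K⁄k]) ≤ finrank L (Ω[L⁄k]) := by
  have := essFiniteType_of_tower (k := k) K L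
  have hK : Module.Finite K (Ω[K⁄k]) := inferInstance
  have : Algebra.EssFiniteType K L := Algebra.EssFiniteType.of_comp k K L
  obtain ⟨s, hs⟩ := IntermediateField.fg_top (F := K) (E := L)
  exact ⟨inferInstance, hK, (finrank_ineq_aux s.card s le_rfl hs).2⟩

end Groth.Agent.CartierIneqLib
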